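import Groth.Agent.FlatDesc6928.Pres
import Groth.Prelude.Def_FlatCA
import Mathlib.RingTheory.Finiteness.Ideal

/-!
# Flatness at points in terms of a presentation, and existence of presentations
-/

universe u

set_option linter.style.haveILetI false
set_option backward.isDefEq.respectTransparency false

open MvPolynomial

namespace Groth.Agent.FlatDesc6928

open FlatSpread

variable {R S M : Type u} [CommRing R] [CommRing S] [Algebra R S] [AddCommGroup M] [Module S M]
  [Module R M] [IsScalarTower R S M] {n b : ℕ} {U : Submonoid (MvPolynomial (Fin n) R)}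
  {W : Submodule (MvPolynomial (Fin n) R) (Fin b → MvPolynomial (Fin n) R)}
  {xs : Fin n → S} {ms : Fin b → M}

theorem Pres.flatAt_iff (h : Pres U W xs ms) (q : Ideal S) [q.IsPrime] :
    FlatCA.FlatAt R q M ↔ Fl (⊥ : Ideal R) (q.primeCompl.comap (aeval xs : MvPolynomial (Fin n) R →ₐ[R] S)) W := by
  let P := MvPolynomial (Fin n) R
  let π : P →ₐ[R] S := aeval xs
  let Q : Submonoid P := q.primeCompl.comap π
  let X := LocalizedModule q.primeCompl M
  letI : Module P X := Module.compHom X π.toRingHom
  haveI : IsScalarTower R P X := IsScalarTower.of_algebraMap_smul fun r y => by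
    change π (algebraMap R P r) • y = r • y
    rw [AlgHom.commutes, algebraMap_smul]
  let ρ : (Fin b → P) →ₗ[P] X :=
    { toFun := fun z => LocalizedModule.mkLinearMap q.primeCompl M (∑ i, π (z i) • ms i)
      map_add' := fun z z' => by
        rw [← map_add, ← Finset.sum_add_distrib]
        refine congrArg _ (Finset.sum_congr rfl fun i _ => ?_)
        rw [Pi.add_apply, map_add, add_smul]
      map_smul' := fun p z => by
        change _ = π p • LocalizedModule.mkLinearMap q.primeCompl M (∑ i, π (z i) • ms i)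
        rw [← map_smul, Finset.smul_sum]
        refine congrArg _ (Finset.sum_congr rfl fun i _ => ?_)
        rw [Pi.smul_apply, smul_eq_mul, map_mul, mul_smul] }
  let ρb : ((Fin b → P) ⧸ W) →ₗ[P] X := W.liftQ ρ fun w hw => by
    change LocalizedModule.mkLinearMap q.primeCompl M _ = 0
    rw [h.rel w hw, map_zero]
  have hU : ∀ v ∈ U, v ∈ Q := fun v hv hq => Ideal.IsPrime.ne_top ‹_› (q.eq_top_of_isUnit_mem hq (h.units v hv))
  haveI : IsLocalizedModule Q ρb := {
    map_units := fun v => by
      rw [Module.End.isUnit_iff]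
      exact ((Module.End.isUnit_iff _).mp
        (IsLocalizedModule.map_units (S := q.primeCompl) (LocalizedModule.mkLinearMap q.primeCompl M)
          ⟨π v.1, v.2⟩) :)
    surj := fun y => by
      obtain ⟨⟨m, t⟩, hy⟩ := IsLocalizedModule.surj q.primeCompl (LocalizedModule.mkLinearMap q.primeCompl M) y
      obtain ⟨p, v, hv, hp⟩ := h.surj t.1
      obtain ⟨x, v', hv', hx⟩ := h.surjMod m
      have hpQ : p ∈ Q := by
        change π p ∈ q.primeCompl
        rw [← hp]
        exact mul_mem t.2 (hU v hv)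
      refine ⟨(Submodule.Quotient.mk (v • x), ⟨v' * p, mul_mem (hU v' hv') hpQ⟩), ?_⟩
      change π (v' * p) • y = LocalizedModule.mkLinearMap q.primeCompl M (∑ i, π ((v • x) i) • ms i)
      simp only [Pi.smul_apply, smul_eq_mul, map_mul, mul_smul, ← Finset.smul_sum, ← hp, π]
      rw [← hx, map_smul, map_smul, ← hy, Submonoid.smul_def]
      simp only [smul_smul]
      congr 1
      rw [← hp]
      ring
    exists_of_eq := fun {z₁ z₂} he => by
      obtain ⟨z, hz⟩ := Submodule.Quotient.mk_surjective W (z₁ - z₂)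
      have h0 : LocalizedModule.mkLinearMap q.primeCompl M (∑ i, π (z i) • ms i) =
          LocalizedModule.mkLinearMap q.primeCompl M 0 := by
        rw [map_zero]
        change ρb (Submodule.Quotient.mk z) = 0
        rw [hz, map_sub, he, sub_self]
      obtain ⟨t, ht⟩ := IsLocalizedModule.exists_of_eq (S := q.primeCompl) h0
      obtain ⟨p, v, hv, hp⟩ := h.surj t.1
      obtain ⟨v', hv', hv'z⟩ := h.sat (p • z) (by
        simp only [Pi.smul_apply, smul_eq_mul, map_mul, mul_smul, ← Finset.smul_sum, ← hp]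
        rw [smul_comm]
        rw [smul_zero, Submonoid.smul_def] at ht
        rw [ht, smul_zero])
      refine ⟨⟨v' * p, mul_mem (hU v' hv') ?_⟩, ?_⟩
      · change π p ∈ q.primeCompl
        rw [← hp]
        exact mul_mem t.2 (hU v hv)
      · rw [Submonoid.mk_smul, Submonoid.mk_smul, ← sub_eq_zero, ← smul_sub, ← hz,
          ← Submodule.Quotient.mk_smul]
        exact (Submodule.Quotient.mk_eq_zero W).mpr (by rwa [mul_smul]) }
  let e := (IsLocalizedModule.iso Q ρb).restrictScalars R
  constructor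
  · intro hfl
    haveI : Module.Flat R X := hfl
    haveI := Module.Flat.of_linearEquiv e
    exact fl_of_flat Q W
  · intro hfl
    haveI := flat_of_fl Q W hfl
    exact Module.Flat.of_linearEquiv e.symm

omit [Module R M] [IsScalarTower R S M] in
theorem exists_pres (hS : FlatCA.EssFinitePresentation R S) [Module.FinitePresentation S M] :
    ∃ (n b : ℕ) (U : Submonoid (MvPolynomial (Fin n) R))
      (W : Submodule (MvPolynomial (Fin n) R) (Fin b → MvPolynomial (Fin n) R)) (xs : Fin n → S)
      (ms : Fin b → M), W.FG ∧ Pres U W xs ms := by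
  classical
  obtain ⟨S₀, _, _, _, _, M₀, hfp, hloc⟩ := hS
  obtain ⟨n, π₀, hπ₀, hker⟩ := Algebra.FinitePresentation.out (R := R) (A := S₀)
  obtain ⟨b, g, hg⟩ := Module.Finite.exists_fin' S M
  obtain ⟨rels, hrels⟩ := Module.FinitePresentation.fg_ker g hg
  let P := MvPolynomial (Fin n) R
  let π : P →ₐ[R] S := (IsScalarTower.toAlgHom R S₀ S).comp π₀
  let xs : Fin n → S := fun i => π (X i)
  have hπ : ∀ p, aeval xs p = π p := fun p => (DFunLike.congr_fun (MvPolynomial.aeval_unique π) p).symm
  let U : Submonoid P := M₀.comap π₀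
  have hunit : ∀ v ∈ U, IsUnit (π v) := fun v hv => IsLocalization.map_units S ⟨π₀ v, hv⟩
  have hsurj : ∀ s : S, ∃ p : P, ∃ v ∈ U, s * π v = π p := fun s => by
    obtain ⟨⟨a, t⟩, ha⟩ := IsLocalization.surj M₀ s
    obtain ⟨p, rfl⟩ := hπ₀ a
    obtain ⟨v, hv⟩ := hπ₀ t.1
    refine ⟨p, v, show π₀ v ∈ M₀ by rw [hv]; exact t.2, ?_⟩
    change s * algebraMap S₀ S (π₀ v) = _
    rw [hv]
    exact ha
  have hkill : ∀ x : Fin b → P, (∀ i, π (x i) = 0) → ∃ v ∈ U, ∀ i, π₀ (v * x i) = 0 := by
    intro x hx
    have : ∀ i, ∃ v ∈ U, π₀ (v * x i) = 0 := fun i => by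
      obtain ⟨t, ht⟩ := (IsLocalization.map_eq_zero_iff M₀ S (π₀ (x i))).mp (hx i)
      obtain ⟨v, hv⟩ := hπ₀ t.1
      exact ⟨v, show π₀ v ∈ M₀ by rw [hv]; exact t.2, by rw [map_mul, hv, ht]⟩
    choose v hv hvx using this
    refine ⟨∏ i, v i, prod_mem fun i _ => hv i, fun i => ?_⟩
    rw [← Finset.mul_prod_erase _ v (Finset.mem_univ i), mul_comm (v i), mul_assoc, map_mul, hvx, mul_zero]
  have hvec : ∀ r : Fin b → S, ∃ x : Fin b → P, ∃ v ∈ U, ∀ i, π v * r i = π (x i) := by
    intro r
    choose p v hv hp using fun i => hsurj (r i)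
    refine ⟨fun i => p i * ∏ j ∈ Finset.univ.erase i, v j, ∏ j, v j, prod_mem fun i _ => hv i, fun i => ?_⟩
    rw [← Finset.mul_prod_erase _ v (Finset.mem_univ i), map_mul, map_mul, ← hp]
    ring
  choose lift den hden hlift using hvec
  let K : Ideal P := RingHom.ker π₀.toRingHom
  let W : Submodule P (Fin b → P) :=
    Submodule.pi Set.univ (fun _ => K) ⊔ Submodule.span P (lift '' (rels : Set (Fin b → S)))
  have hKfg : (Submodule.pi Set.univ (fun _ : Fin b => K)).FG := Submodule.fg_pi (fun _ => hker)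
  have hW : W.FG := hKfg.sup (Submodule.fg_span ((rels.finite_toSet).image lift))
  let ms : Fin b → M := fun i => g (Pi.single i 1)
  have hgsum : ∀ r : Fin b → S, g r = ∑ i, r i • ms i := fun r => by
    conv_lhs => rw [← Finset.univ_sum_single r]
    rw [map_sum]
    exact Finset.sum_congr rfl fun i _ => by rw [← g.map_smul, ← Pi.single_smul', smul_eq_mul, mul_one]
  refine ⟨n, b, U, W, xs, ms, hW, ?_, ?_, ?_, ?_, ?_⟩
  · exact fun v hv => by rw [hπ]; exact hunit v hv
  · exact fun s => by
      obtain ⟨p, v, hv, h⟩ := hsurj s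
      exact ⟨p, v, hv, by rw [hπ, hπ, h]⟩
  · intro y
    obtain ⟨r, rfl⟩ := hg y
    refine ⟨lift r, den r, hden r, ?_⟩
    simp only [hπ, hgsum, Finset.smul_sum, smul_smul, hlift]
  · intro w hw
    simp only [hπ]
    obtain ⟨x, hx, z, hz, rfl⟩ := Submodule.mem_sup.mp hw
    suffices H : ∑ i, π (z i) • ms i = 0 by
      simp only [Pi.add_apply, map_add, add_smul, Finset.sum_add_distrib, H, add_zero]
      refine Finset.sum_eq_zero fun i _ => ?_
      rw [show π (x i) = 0 by
        change algebraMap S₀ S (π₀ (x i)) = 0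
        rw [show π₀ (x i) = 0 from (Submodule.mem_pi.mp hx) i (Set.mem_univ i), map_zero], zero_smul]
    clear hw hx
    induction hz using Submodule.span_induction with
    | mem x hx =>
      obtain ⟨r, hr, rfl⟩ := hx
      simp only [← hlift, mul_smul, ← Finset.smul_sum, ← hgsum]
      rw [show g r = 0 from LinearMap.mem_ker.mp (hrels ▸ Submodule.subset_span hr), smul_zero]
    | zero => simp
    | add x y _ _ hx hy => simp [add_smul, Finset.sum_add_distrib, hx, hy]
    | smul p x _ hx => simp [mul_smul, ← Finset.smul_sum, hx]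
  · intro x hx
    simp only [hπ] at hx
    have hmem : (fun i => π (x i)) ∈ Submodule.span S (rels : Set (Fin b → S)) := by
      rw [hrels, LinearMap.mem_ker, hgsum]
      exact hx
    obtain ⟨y, hy, v, hv, hvy⟩ : ∃ y ∈ Submodule.span P (lift '' (rels : Set (Fin b → S))),
        ∃ v ∈ U, ∀ i, π v * π (x i) = π (y i) := by
      suffices H : ∀ r ∈ Submodule.span S (rels : Set (Fin b → S)),
          ∃ y ∈ Submodule.span P (lift '' (rels : Set (Fin b → S))), ∃ v ∈ U, ∀ i, π v * r i = π (y i) from
        H _ hmem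
      intro r hr
      induction hr using Submodule.span_induction with
      | mem r hr => exact ⟨_, Submodule.subset_span ⟨r, hr, rfl⟩, _, hden r, hlift r⟩
      | zero => exact ⟨0, zero_mem _, 1, one_mem _, fun i => by simp⟩
      | add r r' _ _ ih ih' =>
        obtain ⟨y, hy, v, hv, h⟩ := ih
        obtain ⟨y', hy', v', hv', h'⟩ := ih'
        refine ⟨v' • y + v • y', add_mem (Submodule.smul_mem _ _ hy) (Submodule.smul_mem _ _ hy'), v * v',
          mul_mem hv hv', fun i => ?_⟩
        simp only [Pi.add_apply, Pi.smul_apply, smul_eq_mul, map_add, map_mul, ← h, ← h']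
        ring
      | smul c r _ ih =>
        obtain ⟨y, hy, v, hv, h⟩ := ih
        obtain ⟨p, v', hv', hp⟩ := hsurj c
        refine ⟨p • y, Submodule.smul_mem _ _ hy, v' * v, mul_mem hv' hv, fun i => ?_⟩
        simp only [Pi.smul_apply, smul_eq_mul, map_mul, ← hp, ← h]
        ring
    obtain ⟨t, ht, h0⟩ := hkill (v • x - y) fun i => by simp [hvy]
    refine ⟨t * v, mul_mem ht hv, Submodule.mem_sup.mpr
      ⟨t • (v • x - y), Submodule.mem_pi.mpr fun i _ => h0 i, t • y, Submodule.smul_mem _ _ hy, ?_⟩⟩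
    rw [smul_sub, mul_smul, sub_add_cancel]

end Groth.Agent.FlatDesc6928
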