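import Groth.Agent.FlatSpread.Tensor
import Mathlib.RingTheory.Localization.BaseChange
import Mathlib.RingTheory.IsTensorProduct

/-!
# Presentations up to localisation and their base change

A module `M` over a localisation `S` of a finitely generated `R`-algebra is described by generators
of `S` up to denominators and a submodule of relations, and this description is stable under base change.
-/

universe u

set_option linter.style.haveILetI false
set_option backward.isDefEq.respectTransparency false

open MvPolynomial TensorProduct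

namespace Groth.Agent.FlatDesc6928

open FlatSpread

/-- Generators `xs` of the algebra and `ms` of the module, up to the denominators `U`, with
relations `W` saturated up to `U`. -/
structure Pres {R S M : Type u} [CommRing R] [CommRing S] [Algebra R S] [AddCommGroup M] [Module S M]
    {n b : ℕ} (U : Submonoid (MvPolynomial (Fin n) R))
    (W : Submodule (MvPolynomial (Fin n) R) (Fin b → MvPolynomial (Fin n) R))
    (xs : Fin n → S) (ms : Fin b → M) : Prop where
  units : ∀ p ∈ U, IsUnit (aeval xs p)
  surj : ∀ s : S, ∃ p : MvPolynomial (Fin n) R, ∃ v ∈ U, s * aeval xs v = aeval xs p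
  surjMod : ∀ y : M, ∃ x : Fin b → MvPolynomial (Fin n) R, ∃ v ∈ U,
    aeval xs v • y = ∑ i, aeval xs (x i) • ms i
  rel : ∀ w ∈ W, ∑ i, aeval xs (w i) • ms i = 0
  sat : ∀ x : Fin b → MvPolynomial (Fin n) R, ∑ i, aeval xs (x i) • ms i = 0 → ∃ v ∈ U, v • x ∈ W

theorem Pres.baseChange {R S M : Type u} [CommRing R] [CommRing S] [Algebra R S] [AddCommGroup M]
    [Module S M] {n b : ℕ} {U : Submonoid (MvPolynomial (Fin n) R)}
    {W : Submodule (MvPolynomial (Fin n) R) (Fin b → MvPolynomial (Fin n) R)}
    {xs : Fin n → S} {ms : Fin b → M} (h : Pres U W xs ms)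
    {G S' : Type u} [CommRing G] [Algebra R G] [CommRing S'] [Algebra S S'] [Algebra G S'] [Algebra R S']
    [IsScalarTower R S S'] [IsScalarTower R G S'] [Algebra.IsPushout R S G S']
    {M' : Type u} [AddCommGroup M'] [Module S' M'] [Module S M'] [IsScalarTower S S' M']
    (f : M →ₗ[S] M') (hf : IsBaseChange S' f) :
    Pres (U.map (MvPolynomial.map (algebraMap R G))) (ext (algebraMap R G) W)
      (fun i => algebraMap S S' (xs i)) (fun i => f (ms i)) := by
  classical
  haveI : Algebra.IsPushout R G S S' := Algebra.IsPushout.symm inferInstance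
  let P₀ := MvPolynomial (Fin n) R
  let PG := MvPolynomial (Fin n) G
  let xs' : Fin n → S' := fun i => algebraMap S S' (xs i)
  let a : P₀ →+* PG := MvPolynomial.map (algebraMap R G)
  have hcomp : ∀ p : P₀, aeval xs' (a p) = algebraMap S S' (aeval xs p) := fun p => by
    rw [show aeval xs' (a p) = aeval xs' p from MvPolynomial.aeval_map_algebraMap G xs' p]
    exact (MvPolynomial.aeval_algebraMap_apply (R := R) (B := S') xs p)
  have hρ : ∀ x : Fin b → P₀, ∑ i, aeval xs' (kL (algebraMap R G) x i) • f (ms i) =
      f (∑ i, aeval xs (x i) • ms i) := fun x => by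
    rw [map_sum]
    refine Finset.sum_congr rfl fun i _ => ?_
    rw [f.map_smul, ← algebraMap_smul S' (aeval xs (x i)), ← hcomp]
    rfl
  have hsurj : ∀ s : S', ∃ p : PG, ∃ v ∈ U, s * aeval xs' (a v) = aeval xs' p := by
    intro s
    induction s using (Algebra.IsPushout.out (R := R) (S := G) (R' := S) (S' := S')).inductionOn with
    | zero => exact ⟨0, 1, one_mem _, by simp⟩
    | tmul t =>
      obtain ⟨p, v, hv, hp⟩ := h.surj t
      exact ⟨a p, v, hv, by rw [hcomp, hcomp, ← hp, map_mul]; rfl⟩
    | smul c t ih =>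
      obtain ⟨p, v, hv, hp⟩ := ih
      exact ⟨C c * p, v, hv, by rw [map_mul, aeval_C, ← hp, Algebra.smul_def, mul_assoc]⟩
    | add t t' ih ih' =>
      obtain ⟨p, v, hv, hp⟩ := ih
      obtain ⟨p', v', hv', hp'⟩ := ih'
      refine ⟨p * a v' + p' * a v, v * v', mul_mem hv hv', ?_⟩
      rw [map_mul, map_mul, map_add, map_mul, map_mul, ← hp, ← hp']
      ring
  refine ⟨?_, ?_, ?_, ?_, ?_⟩
  · rintro _ ⟨v, hv, rfl⟩
    exact hcomp v ▸ (h.units v hv).map (algebraMap S S')
  · intro s
    obtain ⟨p, v, hv, hp⟩ := hsurj s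
    exact ⟨p, a v, ⟨v, hv, rfl⟩, hp⟩
  · intro y
    induction y using hf.inductionOn with
    | zero => exact ⟨0, 1, one_mem _, by simp⟩
    | tmul m =>
      obtain ⟨x, v, hv, hx⟩ := h.surjMod m
      refine ⟨kL (algebraMap R G) x, a v, ⟨v, hv, rfl⟩, ?_⟩
      rw [hρ, ← hx, f.map_smul, ← algebraMap_smul S' (aeval xs v), ← hcomp]
    | smul s y ih =>
      obtain ⟨x, _, ⟨v, hv, rfl⟩, hx⟩ := ih
      obtain ⟨p, v', hv', hp⟩ := hsurj s
      refine ⟨fun i => p * x i, a (v * v'), ⟨v * v', mul_mem hv hv', rfl⟩, ?_⟩
      simp only [map_mul, mul_smul, ← Finset.smul_sum]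
      rw [← hp]
      change aeval xs' (a v) • aeval xs' (a v') • s • y = _
      rw [smul_smul (aeval xs' (a v')), smul_comm, mul_comm (aeval xs' (a v')) s]
      exact congrArg _ hx
    | add y y' ih ih' =>
      obtain ⟨x, _, ⟨v, hv, rfl⟩, hx⟩ := ih
      obtain ⟨x', _, ⟨v', hv', rfl⟩, hx'⟩ := ih'
      refine ⟨fun i => a v' * x i + a v * x' i, a (v * v'), ⟨v * v', mul_mem hv hv', rfl⟩, ?_⟩
      simp only [map_add, map_mul, add_smul, mul_smul, Finset.sum_add_distrib, ← Finset.smul_sum]
      rw [← hx, ← hx', smul_add, smul_add, smul_comm]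
  · intro w hw
    induction hw using Submodule.span_induction with
    | mem w hw =>
      obtain ⟨w₀, hw₀, rfl⟩ := hw
      rw [hρ, h.rel w₀ hw₀, map_zero]
    | zero => simp
    | add x y _ _ hx hy => simp [add_smul, Finset.sum_add_distrib, hx, hy]
    | smul p x _ hx => simp [mul_smul, ← Finset.smul_sum, hx]
  · intro x hx
    -- pass to `M` and the cokernel of the relations, tensored with `G`
    letI : Module P₀ M := Module.compHom M (aeval xs : P₀ →ₐ[R] S).toRingHom
    haveI : IsScalarTower P₀ P₀ M := ⟨fun p q y => mul_smul p q y⟩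
    letI : Module R M := Module.compHom M (algebraMap R S)
    haveI : IsScalarTower R S M := IsScalarTower.of_algebraMap_smul fun _ _ => rfl
    haveI : IsScalarTower R P₀ M := IsScalarTower.of_algebraMap_smul fun r y => by
      change aeval xs (algebraMap R P₀ r) • y = algebraMap R S r • y
      rw [AlgHom.commutes]
    let ρ : (Fin b → P₀) →ₗ[P₀] M :=
      { toFun := fun z => ∑ i, aeval xs (z i) • ms i
        map_add' := fun z z' => by simp [add_smul, Finset.sum_add_distrib]
        map_smul' := fun p z => by
          change _ = aeval xs p • ∑ i, aeval xs (z i) • ms i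
          simp [mul_smul, Finset.smul_sum] }
    let ρb : ((Fin b → P₀) ⧸ W) →ₗ[P₀] M := W.liftQ ρ fun w hw => h.rel w hw
    haveI : IsLocalizedModule U ρb := {
      map_units := fun v => by
        rw [Module.End.isUnit_iff]
        exact (h.units v v.2).smul_bijective
      surj := fun y => by
        obtain ⟨z, v, hv, hz⟩ := h.surjMod y
        exact ⟨(Submodule.Quotient.mk z, ⟨v, hv⟩), hz⟩
      exists_of_eq := fun {z₁ z₂} he => by
        obtain ⟨z, hz⟩ := Submodule.Quotient.mk_surjective W (z₁ - z₂)
        obtain ⟨v, hv, hvz⟩ := h.sat z (show ρ z = 0 by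
          rw [show ρ z = ρb (Submodule.Quotient.mk z) from rfl, hz, map_sub, he, sub_self])
        refine ⟨⟨v, hv⟩, ?_⟩
        rw [Submonoid.mk_smul, Submonoid.mk_smul, ← sub_eq_zero, ← smul_sub, ← hz,
          ← Submodule.Quotient.mk_smul]
        exact (Submodule.Quotient.mk_eq_zero W).mpr hvz }
    let τ : ((Fin b → P₀) ⧸ W) ⊗[R] G →ₗ[R] ((Fin b → PG) ⧸ ext (algebraMap R G) W) :=
      ((isBaseChange_quotMap (A' := G) W).equiv.toLinearMap.restrictScalars R).comp
        (TensorProduct.comm R _ G).toLinearMap
    have hτ : ∀ z c, τ (z ⊗ₜ c) = c • quotMap W z := fun z c => (isBaseChange_quotMap (A' := G) W).equiv_tmul _ _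
    let σ : M ⊗[R] G → M' := fun z =>
      hf.equiv ((Algebra.IsPushout.cancelBaseChange R G S S' M).symm (TensorProduct.comm R M G z))
    have hσ : Function.Injective σ :=
      hf.equiv.injective.comp ((Algebra.IsPushout.cancelBaseChange R G S S' M).symm.injective.comp
        (TensorProduct.comm R M G).injective)
    obtain ⟨z, hz⟩ : ∃ z, τ z = Submodule.Quotient.mk x := by
      exact ((isBaseChange_quotMap (A' := G) W).equiv.surjective.comp
        (TensorProduct.comm R _ G).surjective) _
    let ρG : ((Fin b → PG) ⧸ ext (algebraMap R G) W) → M' := fun y =>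
      ∑ i, aeval xs' (Quotient.out y i) • f (ms i)
    have hρG : ∀ y : Fin b → PG, ∑ i, aeval xs' (y i) • f (ms i) = ρG (Submodule.Quotient.mk y) := by
      intro y
      have hmem : y - Quotient.out (Submodule.Quotient.mk (p := ext (algebraMap R G) W) y) ∈
          ext (algebraMap R G) W := (Submodule.Quotient.eq _).mp (Quotient.out_eq _).symm
      have h0 : ∀ w ∈ ext (algebraMap R G) W, ∑ i, aeval xs' (w i) • f (ms i) = 0 := by
        intro w hw
        induction hw using Submodule.span_induction with
        | mem w hw => obtain ⟨w₀, hw₀, rfl⟩ := hw; rw [hρ, h.rel w₀ hw₀, map_zero]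
        | zero => simp
        | add x y _ _ hx hy => simp [add_smul, Finset.sum_add_distrib, hx, hy]
        | smul p x _ hx => simp [mul_smul, ← Finset.smul_sum, hx]
      have := h0 _ hmem
      simpa [sub_smul, Finset.sum_sub_distrib, sub_eq_zero] using this
    have hρG_add : ∀ y y', ρG (y + y') = ρG y + ρG y' := by
      intro y y'
      obtain ⟨y, rfl⟩ := Submodule.Quotient.mk_surjective _ y
      obtain ⟨y', rfl⟩ := Submodule.Quotient.mk_surjective _ y'
      rw [← Submodule.Quotient.mk_add, ← hρG, ← hρG, ← hρG]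
      simp [add_smul, Finset.sum_add_distrib]
    have key : ∀ w, σ (AlgebraTensorModule.rTensor R G ρb w) = ρG (τ w) := by
      intro w
      induction w using TensorProduct.induction_on with
      | zero => simp [σ, ← Submodule.Quotient.mk_zero, ← hρG]
      | tmul z c =>
        obtain ⟨z, rfl⟩ := Submodule.Quotient.mk_surjective W z
        rw [hτ, quotMap_mk, ← Submodule.Quotient.mk_smul, ← hρG]
        change hf.equiv ((Algebra.IsPushout.cancelBaseChange R G S S' M).symm (c ⊗ₜ ρ z)) = _
        rw [Algebra.IsPushout.cancelBaseChange_symm_tmul, IsBaseChange.equiv_tmul,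
          show f (ρ z) = _ from (hρ z).symm, Finset.smul_sum]
        refine Finset.sum_congr rfl fun i _ => ?_
        rw [Pi.smul_apply, smul_eq_C_mul, map_mul, aeval_C, mul_smul]
      | add w w' hw hw' =>
        have : σ (AlgebraTensorModule.rTensor R G ρb (w + w')) =
            σ (AlgebraTensorModule.rTensor R G ρb w) + σ (AlgebraTensorModule.rTensor R G ρb w') := by
          simp [σ]
        rw [this, hw, hw', map_add, hρG_add]
    have h0 : AlgebraTensorModule.rTensor R G ρb z = AlgebraTensorModule.rTensor R G ρb 0 := by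
      refine hσ ?_
      rw [key, hz, ← hρG, hx, map_zero]
      simp [σ]
    obtain ⟨v, hv⟩ := IsLocalizedModule.exists_of_eq (S := U) h0
    rw [smul_zero, Submonoid.smul_def] at hv
    refine ⟨a v, ⟨v, v.2, rfl⟩, (Submodule.Quotient.mk_eq_zero _).mp ?_⟩
    have hτs : ∀ w, τ ((v : P₀) • w) = a v • τ w := by
      intro w
      induction w using TensorProduct.induction_on with
      | zero => simp
      | tmul z c =>
        obtain ⟨z, rfl⟩ := Submodule.Quotient.mk_surjective W z
        rw [TensorProduct.smul_tmul', hτ, hτ, ← Submodule.Quotient.mk_smul, quotMap_mk, quotMap_mk,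
          LinearMap.map_smulₛₗ, Submodule.Quotient.mk_smul, smul_comm]
      | add w w' hw hw' => simp only [smul_add, map_add, hw, hw']
    rw [Submodule.Quotient.mk_smul, ← hz, ← hτs, hv, map_zero]

end Groth.Agent.FlatDesc6928
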